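import Cfsg.Agent.Lib.Brauer43.Main
import Cfsg.Agent.Lib.Coprime.Action
import Cfsg.Prelude.Def_LocalStructure

/-!
# Lower bound for the order of a group with non-normal Sylow `p`-subgroups

An elementary reduction to the Brauer–Reynolds theorem: below `min (p m) (p (p² - 1) / 2)` every
Sylow `p`-subgroup is normal, `m` being any lower bound for prime powers `k > 1`, `k ≡ 1 (mod p)`.
-/

set_option autoImplicit false

namespace CfsgLib.LeastNonPClosed

open Cfsg

variable {H : Type} [Group H] [Finite H] {p : ℕ} [hp : Fact p.Prime]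

omit [Finite H] hp in
/-- `¬ IsPClosed` gives a non-normal Sylow subgroup. -/
theorem exists_not_normal (h : ¬ IsPClosed p H) : ∃ P : Sylow p H, ¬ (P : Subgroup H).Normal :=
  not_forall.1 h

theorem dvd_card_of_not_normal (P : Sylow p H) (h : ¬ (P : Subgroup H).Normal) : p ∣ Nat.card H := by
  rcases Nat.eq_zero_or_pos ((Nat.card H).factorization p) with h0 | h0
  · exact absurd (by
      have h1 : Nat.card (P : Subgroup H) = 1 := by rw [P.card_eq_multiplicity, h0, pow_zero]
      rw [Subgroup.card_eq_one] at h1
      rw [h1]; infer_instance) h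
  · exact Nat.dvd_of_factorization_pos h0.ne'

theorem not_isPClosed_of_le (P : Sylow p H) (h : ¬ (P : Subgroup H).Normal) (K : Subgroup H)
    [K.Normal] (hle : (P : Subgroup H) ≤ K) : ¬ IsPClosed p ↥K := by
  intro hc
  haveI := hc (P.subtype hle)
  haveI : ((P.subtype hle : Sylow p K) : Subgroup K).Characteristic :=
    (P.subtype hle).characteristic_of_normal inferInstance
  apply h
  have h1 : (((P.subtype hle : Sylow p K) : Subgroup K).map K.subtype).Normal :=
    ConjAct.normal_of_characteristic_of_normal
  rwa [Sylow.coe_subtype, Subgroup.map_subgroupOf_eq_of_le hle] at h1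

/-- The affine case: `P` of order `p` acts non-trivially on the `p'`-group `K`. -/
theorem le_card_of_acts {m : ℕ} (hleast : ∀ k : ℕ, IsPrimePow k → k % p = 1 → m ≤ k)
    {P K : Subgroup H} (hP : Nat.card P = p) (hnorm : P ≤ Subgroup.normalizer (K : Set H))
    (hndvd : ¬ p ∣ Nat.card K) (hnc : ¬ K ≤ Subgroup.centralizer (P : Set H)) :
    m ≤ Nat.card K := by
  have hpp : p.Prime := hp.out
  have hPp : IsPGroup p P := IsPGroup.of_card (n := 1) (by rw [pow_one]; exact hP)
  have hcop : (Nat.card P).Coprime (Nat.card K) := by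
    rw [hP]; exact hpp.coprime_iff_not_dvd.2 hndvd
  haveI : IsCyclic P := isCyclic_of_prime_card hP
  letI : CommGroup P := IsCyclic.commGroup
  have hsolv : Group.IsSolvable P := inferInstance
  set C := K ⊓ Subgroup.centralizer (P : Set H) with hC
  obtain ⟨q, hq, hnd⟩ : ∃ q : ℕ, q.Prime ∧ ¬ q ^ (Nat.card K).factorization q ∣ Nat.card C := by
    by_contra! hall
    apply hnc
    have h1 : Nat.card K ∣ Nat.card C := by
      rw [Nat.dvd_iff_prime_pow_dvd_dvd]
      intro q k hq hk
      exact ((Nat.pow_dvd_pow q ((hq.pow_dvd_iff_le_factorization Nat.card_pos.ne').1 hk))).trans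
        (hall q hq)
    exact (Subgroup.eq_of_le_of_card_ge (inf_le_left : C ≤ K)
      (Nat.le_of_dvd Nat.card_pos h1)).symm.le.trans inf_le_right
  haveI : Fact q.Prime := ⟨hq⟩
  obtain ⟨S, hS⟩ := CfsgLib.Coprime.exists_invariant_sylow (p := q) hnorm hcop (Or.inl hsolv)
  set Q := (S : Subgroup K).map K.subtype with hQ
  have hQK : Q ≤ K := Subgroup.map_subtype_le _
  have hQcard : Nat.card Q = q ^ (Nat.card K).factorization q := by
    rw [hQ, Subgroup.card_map_of_injective K.subtype_injective, S.card_eq_multiplicity]
  -- the action of `P` on `Q`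
  letI act : MulAction P Q :=
    { smul := fun a x => ⟨(a : H) * x * (a : H)⁻¹,
        (Subgroup.mem_normalizer_iff.1 (hS a.2) (x : H)).1 x.2⟩
      one_smul := fun x => Subtype.ext (show ((1 : P) : H) * x * ((1 : P) : H)⁻¹ = x by simp)
      mul_smul := fun a b x => Subtype.ext (show ((a * b : P) : H) * x * ((a * b : P) : H)⁻¹ =
        (a : H) * ((b : H) * x * (b : H)⁻¹) * (a : H)⁻¹ by simp [mul_assoc]) }
  have hmod := hPp.card_modEq_card_fixedPoints Q
  have hfix : Nat.card (MulAction.fixedPoints P Q) =
      Nat.card (Q ⊓ Subgroup.centralizer (P : Set H) : Subgroup H) := by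
    refine Nat.card_congr
      { toFun := fun x => ⟨((x : Q) : H), x.1.2, fun a ha => ?_⟩
        invFun := fun y => ⟨⟨(y : H), y.2.1⟩, fun a => Subtype.ext ?_⟩
        left_inv := fun x => rfl
        right_inv := fun y => rfl }
    · have h1 : a * ((x : Q) : H) * a⁻¹ = ((x : Q) : H) :=
        congrArg Subtype.val (x.2 ⟨a, ha⟩)
      exact mul_inv_eq_iff_eq_mul.1 h1
    · show (a : H) * (y : H) * (a : H)⁻¹ = (y : H)
      rw [y.2.2 a a.2, mul_inv_cancel_right]
  rw [hfix] at hmod
  set D := Q ⊓ Subgroup.centralizer (P : Set H) with hD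
  have hDC : D ≤ C := inf_le_inf hQK le_rfl
  have hDQ : Nat.card D ∣ Nat.card Q := Subgroup.card_dvd_of_le inf_le_left
  have hne : Nat.card D ≠ Nat.card Q := fun h =>
    hnd (hQcard ▸ h ▸ Subgroup.card_dvd_of_le hDC)
  obtain ⟨k, hk, hkD⟩ := (Nat.dvd_prime_pow hq).1 (hQcard ▸ hDQ)
  have hk' : k < (Nat.card K).factorization q :=
    lt_of_le_of_ne hk fun h => hne (by rw [hQcard, hkD, h])
  obtain ⟨j, hj⟩ : ∃ j, (Nat.card K).factorization q = k + (j + 1) :=
    ⟨(Nat.card K).factorization q - k - 1, by omega⟩
  rw [hQcard, hkD, hj, pow_add] at hmod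
  have hqp : Nat.Coprime p q := by
    refine (Nat.coprime_primes hpp hq).2 fun h => hndvd (h ▸ ?_)
    exact Nat.dvd_of_factorization_pos (by omega)
  have h3 : q ^ k * q ^ (j + 1) ≡ q ^ k * 1 [MOD p] := by rw [mul_one]; exact hmod
  have h4 := Nat.ModEq.cancel_left_of_coprime (hqp.pow_right k) h3
  rw [Nat.ModEq, Nat.mod_eq_of_lt hpp.one_lt] at h4
  have h5 := hleast _ (hq.isPrimePow.pow (Nat.succ_ne_zero j)) h4
  refine h5.trans ((Nat.pow_le_pow_right hq.pos (show j + 1 ≤ (Nat.card K).factorization q by
    omega)).trans (hQcard.symm.le.trans (Subgroup.card_le_of_le hQK)))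

/-- The bound. -/
theorem le_card (hodd : p ≠ 2) {m : ℕ} (hleast : ∀ k : ℕ, IsPrimePow k → k % p = 1 → m ≤ k)
    (h : ¬ IsPClosed p H) : min (p * m) (p * (p ^ 2 - 1) / 2) ≤ Nat.card H := by
  induction hn : Nat.card H using Nat.strong_induction_on generalizing H with
  | _ n ih =>
  subst hn
  by_contra! hlt
  set b := min (p * m) (p * (p ^ 2 - 1) / 2) with hb
  have hpp : p.Prime := hp.out
  have hbig : Nat.card H < p ^ 3 := by
    refine lt_of_lt_of_le hlt ((min_le_right _ _).trans ((Nat.div_le_self _ _).trans ?_))
    rw [pow_succ' p 2]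
    exact Nat.mul_le_mul_left _ (Nat.sub_le _ _)
  obtain ⟨P, hPn⟩ := exists_not_normal h
  have hdvd := dvd_card_of_not_normal P hPn
  have hPc : Nat.card (P : Subgroup H) = p := CfsgLib.Brauer43.sylow_card_eq P hPn hdvd hbig
  -- no proper normal subgroup contains `P`
  have htop : ∀ K : Subgroup H, K.Normal → (P : Subgroup H) ≤ K → K = ⊤ := by
    intro K hK hPK
    by_contra hne
    have hcard : Nat.card K < Nat.card H := lt_of_le_of_ne (Subgroup.card_le_card_group K)
      fun e => hne (Subgroup.eq_top_of_card_eq K e)
    exact absurd (ih _ hcard (not_isPClosed_of_le P hPn K hPK) rfl) (by omega)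
  by_cases hperf : commutator H = ⊤
  · -- perfect groups
    by_cases h2 : ∀ N : Subgroup H, N.Normal → Nat.card N ≠ 2
    · have hle : p * (p ^ 2 - 1) / 2 ≤ Nat.card H := by
        rcases CfsgLib.Brauer43.large_prime hperf hdvd hbig P hPn h2 with
          ⟨F, hF, hF', hc, hp3, ⟨i⟩⟩ | ⟨k, F, hF, hF', hc, hpk, hp3, ⟨i⟩⟩
        · have h5 := CfsgLib.Classical.card_PSL_two_mul (F := F)
          rw [← Nat.card_congr i.toEquiv, CfsgLib.Classical.gcd_two_card_sub_one_of_odd (F := F) (by
              rw [Nat.card_eq_fintype_card, hc]; exact hpp.odd_of_ne_two hodd),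
            Nat.card_eq_fintype_card (α := F), hc] at h5
          omega
        · rw [Nat.card_congr i.toEquiv, CfsgLib.Classical.card_SL_two, Nat.card_eq_fintype_card, hc,
            show 2 ^ k = p - 1 by omega]
          obtain ⟨r, rfl⟩ : ∃ r, p = r + 4 := ⟨p - 4, by omega⟩
          rw [show r + 4 - 1 = r + 3 by omega,
            show (r + 4) ^ 2 - 1 = (r + 3) * (r + 5) from
              Nat.sub_eq_of_eq_add (by ring),
            show (r + 3) ^ 2 - 1 = (r + 2) * (r + 4) from Nat.sub_eq_of_eq_add (by ring)]
          have hr : 1 ≤ r := by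
            by_contra! hr0
            obtain rfl : r = 0 := by omega
            exact absurd hpp (by norm_num)
          refine Nat.div_le_of_le_mul ?_
          nlinarith [Nat.mul_le_mul_left ((r + 4) * (r + 3)) (show r + 5 ≤ 2 * (r + 2) by omega)]
      exact absurd ((min_le_right (p * m) _).trans hle) (by omega)
    · push_neg at h2
      obtain ⟨N, hN, hN2⟩ := h2
      haveI := hN
      have hN2' : Nat.card N = 2 := hN2
      have hlt' : Nat.card (H ⧸ N) < Nat.card H := by
        have h6 := Subgroup.card_eq_card_quotient_mul_card_subgroup N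
        have h7 : 0 < Nat.card (H ⧸ N) := Nat.card_pos
        rw [hN2'] at h6; omega
      have hnc : ¬ IsPClosed p (H ⧸ N) := by
        intro hc
        have hqs : Function.Surjective (QuotientGroup.mk' N) := QuotientGroup.mk'_surjective N
        haveI := hc (P.mapSurjective hqs)
        have h8 : (((P.mapSurjective hqs : Sylow p (H ⧸ N)) : Subgroup (H ⧸ N)).comap
            (QuotientGroup.mk' N)).Normal := inferInstance
        rw [Sylow.coe_mapSurjective, Subgroup.comap_map_eq, QuotientGroup.ker_mk'] at h8
        have h9 := htop _ h8 le_sup_left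
        -- `N` is central, so `H = P N` is abelian
        have hNc : ∀ x ∈ N, ∀ g : H, g * x = x * g := by
          intro x hx g
          by_cases hx1 : x = 1
          · simp [hx1]
          have huniq : ∀ y ∈ N, y ≠ 1 → y = x := by
            intro y hy hy1
            obtain ⟨a, b, hab, huniv⟩ := Nat.card_eq_two_iff.1 hN2'
            have hmem : ∀ z : N, z = a ∨ z = b := fun z => by
              have : z ∈ ({a, b} : Set N) := huniv ▸ Set.mem_univ z
              simpa using this
            rcases hmem ⟨x, hx⟩ with h | h <;> rcases hmem ⟨y, hy⟩ with h' | h' <;>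
              rcases hmem 1 with h'' | h''
            all_goals first
              | exact congrArg Subtype.val (h'.trans h.symm)
              | exact absurd (congrArg Subtype.val (h.trans h''.symm)) hx1
              | exact absurd (congrArg Subtype.val (h'.trans h''.symm)) hy1
          have h10 : g * x * g⁻¹ = x := huniq _ (hN.conj_mem x hx g) (by simpa using hx1)
          exact mul_inv_eq_iff_eq_mul.1 h10
        haveI : IsCyclic (P : Subgroup H) := isCyclic_of_prime_card hPc
        have hab : ∀ x y : H, x * y = y * x := by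
          have hgen : Subgroup.closure (((P : Subgroup H) : Set H) ∪ N) = ⊤ := by
            rw [Subgroup.closure_union, Subgroup.closure_eq, Subgroup.closure_eq, h9]
          have hcomm : ∀ a ∈ (((P : Subgroup H) : Set H) ∪ N), ∀ b ∈ (((P : Subgroup H) : Set H) ∪ N),
              a * b = b * a := by
            rintro a (ha | ha) b (hb | hb)
            · exact congrArg Subtype.val ((IsCyclic.isMulCommutative (α := (P : Subgroup H))).is_comm.comm ⟨a, ha⟩ ⟨b, hb⟩)
            · exact hNc b hb a
            · exact (hNc a ha b).symm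
            · exact hNc b hb a
          intro x y
          have hx : x ∈ Subgroup.closure (((P : Subgroup H) : Set H) ∪ N) := hgen ▸ Subgroup.mem_top x
          have hy : y ∈ Subgroup.closure (((P : Subgroup H) : Set H) ∪ N) := hgen ▸ Subgroup.mem_top y
          induction hx, hy using Subgroup.closure_induction₂ with
          | mem a b ha hb => exact hcomm a ha b hb
          | one_left x _ => simp
          | one_right x _ => simp
          | mul_left x y z _ _ _ h1 h2 => exact Commute.mul_left h1 h2
          | mul_right x y z _ _ _ h1 h2 => exact Commute.mul_right h1 h2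
          | inv_left x y _ _ h1 => exact Commute.inv_left h1
          | inv_right x y _ _ h1 => exact Commute.inv_right h1
        have hbot : commutator H = ⊥ := by
          rw [commutator_def, eq_bot_iff, Subgroup.commutator_le]
          intro x _ y _
          rw [Subgroup.mem_bot, commutatorElement_eq_one_iff_mul_comm]
          exact hab x y
        have h11 : Nat.card (⊤ : Subgroup H) = 1 := by
          rw [← hperf, hbot, Subgroup.card_bot]
        rw [Subgroup.card_top] at h11
        have := Nat.le_of_dvd (by omega) hdvd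
        have := hpp.two_le
        omega
      exact absurd (ih _ hlt' hnc rfl) (by omega)
  · -- the derived subgroup is proper
    have hPK : ¬ (P : Subgroup H) ≤ commutator H := fun hle => hperf (htop _ inferInstance hle)
    have hsup : commutator H ⊔ (P : Subgroup H) = ⊤ :=
      htop _ (Subgroup.Normal.of_commutator_le H le_sup_left) le_sup_right
    have hndvd : ¬ p ∣ Nat.card (commutator H) := by
      intro hd
      obtain ⟨g, hg⟩ := exists_prime_orderOf_dvd_card' p hd
      have hg' : IsPGroup p (Subgroup.zpowers (g : H)) := by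
        refine IsPGroup.of_card (n := 1) ?_
        rw [Nat.card_zpowers, Subgroup.orderOf_coe, hg, pow_one]
      obtain ⟨R, hR⟩ := hg'.exists_le_sylow
      have hRc : Nat.card (R : Subgroup H) = p :=
        (R.card_eq_multiplicity.trans P.card_eq_multiplicity.symm).trans hPc
      have hR' : (R : Subgroup H) = Subgroup.zpowers (g : H) :=
        (Subgroup.eq_of_le_of_card_ge hR (by
          rw [hRc, Nat.card_zpowers, Subgroup.orderOf_coe, hg])).symm
      obtain ⟨c, hc⟩ := MulAction.exists_smul_eq H R P
      apply hPK
      rw [← hc]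
      intro x hx
      rw [Sylow.coe_subgroup_smul, Subgroup.mem_pointwise_smul_iff_inv_smul_mem, hR'] at hx
      obtain ⟨k, hk⟩ := hx
      have h12 : (g : H) ^ k ∈ commutator H := (commutator H).zpow_mem g.2 k
      have h13 : x = c * (g : H) ^ k * c⁻¹ := by
        rw [show (g : H) ^ k = _ from hk]
        simp [MulAut.conj_apply, mul_assoc]
      rw [h13]
      exact (inferInstance : (commutator H).Normal).conj_mem _ h12 c
    have hnorm : (P : Subgroup H) ≤ Subgroup.normalizer (commutator H : Set H) := by
      rw [Subgroup.normalizer_eq_top]; exact le_top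
    have hncen : ¬ commutator H ≤ Subgroup.centralizer ((P : Subgroup H) : Set H) := by
      intro hc
      apply hPn
      rw [← Subgroup.normalizer_eq_top_iff, eq_top_iff, ← hsup]
      exact sup_le (hc.trans (Subgroup.centralizer_le_normalizer _))
        Subgroup.le_normalizer
    have hm := le_card_of_acts hleast hPc hnorm hndvd hncen
    have hprod : Nat.card (P : Subgroup H) * Nat.card (commutator H) ∣ Nat.card H :=
      Nat.Coprime.mul_dvd_of_dvd_of_dvd (by rw [hPc]; exact hpp.coprime_iff_not_dvd.2 hndvd)
        (Subgroup.card_subgroup_dvd_card _) (Subgroup.card_subgroup_dvd_card _)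
    rw [hPc] at hprod
    have h14 := (Nat.mul_le_mul_left p hm).trans (Nat.le_of_dvd Nat.card_pos hprod)
    exact absurd ((min_le_left _ (p * (p ^ 2 - 1) / 2)).trans h14) (by omega)

end CfsgLib.LeastNonPClosed
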