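import Cfsg.Agent.Lib.Classical.PSLSimple
import Cfsg.Agent.Lib.Classical.Order
import Cfsg.Prelude.Def_LocalStructure
import Mathlib.FieldTheory.Finite.GaloisField
import Mathlib.GroupTheory.SemidirectProduct

/-!
# The smallest groups that are not `p`-closed
-/

set_option autoImplicit false

namespace CfsgLib.LeastNonPClosed

open Cfsg

variable {p : ℕ} [hp : Fact p.Prime]

/-- `PSL(2, p)` is not `p`-closed. -/
theorem exists_psl (h5 : 5 ≤ p) : ∃ (H : Type) (_ : Group H) (_ : Finite H),
    Nat.card H = p * (p ^ 2 - 1) / 2 ∧ ¬ IsPClosed p H := by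
  have hpp : p.Prime := hp.out
  have hodd : Odd p := hpp.odd_of_ne_two (by omega)
  have hF : Nat.card (ZMod p) = p := by simp
  haveI hS : IsSimpleGroup (Matrix.ProjectiveSpecialLinearGroup (Fin 2) (ZMod p)) :=
    CfsgLib.Classical.isSimpleGroup_PSL_fin 2 le_rfl fun _ => by omega
  haveI hfin : Finite (Matrix.ProjectiveSpecialLinearGroup (Fin 2) (ZMod p)) := by
    unfold Matrix.ProjectiveSpecialLinearGroup; infer_instance
  have hcard : 2 * Nat.card (Matrix.ProjectiveSpecialLinearGroup (Fin 2) (ZMod p)) =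
      p * (p ^ 2 - 1) := by
    have h := CfsgLib.Classical.card_PSL_two_mul (F := ZMod p)
    rwa [CfsgLib.Classical.gcd_two_card_sub_one_of_odd (F := ZMod p) (hF.symm ▸ hodd), hF] at h
  refine ⟨Matrix.ProjectiveSpecialLinearGroup (Fin 2) (ZMod p), inferInstance, inferInstance,
    by omega, fun hc => ?_⟩
  obtain ⟨P⟩ : Nonempty (Sylow p (Matrix.ProjectiveSpecialLinearGroup (Fin 2) (ZMod p))) :=
    inferInstance
  have h2 : p ∣ Nat.card (Matrix.ProjectiveSpecialLinearGroup (Fin 2) (ZMod p)) :=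
    ((Nat.coprime_primes hpp Nat.prime_two).2 (by omega)).dvd_of_dvd_mul_left
      (hcard ▸ dvd_mul_right p _)
  rcases (hc P).eq_bot_or_eq_top with hb | ht
  · exact P.ne_bot_of_dvd_card h2 hb
  · obtain ⟨k, hk⟩ := IsPGroup.iff_card.1 P.isPGroup'
    rw [ht, Subgroup.card_top] at hk
    rw [hk] at hcard
    rcases Nat.eq_zero_or_pos k with rfl | hk0
    · have h3 : 24 ≤ p ^ 2 - 1 := Nat.le_sub_one_of_lt (by nlinarith)
      nlinarith
    · obtain ⟨j, rfl⟩ := Nat.exists_eq_succ_of_ne_zero hk0.ne'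
      have h3 : p ^ 2 - 1 = 2 * p ^ j := by
        refine Nat.eq_of_mul_eq_mul_left hpp.pos ?_
        rw [← hcard, pow_succ]; ring
      rcases Nat.eq_zero_or_pos j with rfl | hj0
      · have h4 : 24 ≤ p ^ 2 - 1 := Nat.le_sub_one_of_lt (by nlinarith)
        simp at h3; omega
      · have h4 : p ∣ p ^ 2 - 1 := h3 ▸ Dvd.dvd.mul_left (dvd_pow_self p hj0.ne') 2
        have h5' : p ∣ p ^ 2 := dvd_pow_self p two_ne_zero
        have h6 := Nat.dvd_sub h5' h4
        rw [Nat.sub_sub_self (Nat.one_le_pow _ _ hpp.pos)] at h6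
        exact hpp.one_lt.ne' (Nat.dvd_one.1 h6)

section Affine

variable {F : Type} [Field F]

/-- Multiplication by units, on the additive group of a field. -/
def affineAct (U : Subgroup Fˣ) : U →* MulAut (Multiplicative F) where
  toFun u :=
    { toFun := fun x => Multiplicative.ofAdd (((u : Fˣ) : F) * x.toAdd)
      invFun := fun x => Multiplicative.ofAdd ((((u : Fˣ)⁻¹ : Fˣ) : F) * x.toAdd)
      left_inv := fun x => by simp
      right_inv := fun x => by simp
      map_mul' := fun x y => by simp [mul_add] }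
  map_one' := by ext x; simp
  map_mul' u v := by ext x; simp [mul_assoc]

theorem affineAct_apply (U : Subgroup Fˣ) (u : U) (x : F) :
    affineAct U u (Multiplicative.ofAdd x) = Multiplicative.ofAdd (((u : Fˣ) : F) * x) := rfl

theorem exists_affine [Finite F] {a : ℕ} (ζ : Fˣ) (hζ : orderOf ζ = p) (ha : Nat.card F = a)
    (hcop : ¬ p ∣ a) : ∃ (H : Type) (_ : Group H) (_ : Finite H),
      Nat.card H = p * a ∧ ¬ IsPClosed p H := by
  set U := Subgroup.zpowers ζ with hU
  haveI : Finite (Multiplicative F ⋊[affineAct U] U) := Finite.of_equiv _ SemidirectProduct.equivProd.symm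
  refine ⟨Multiplicative F ⋊[affineAct U] U, inferInstance, inferInstance, ?_, fun hc => ?_⟩
  · rw [SemidirectProduct.card, hU, Nat.card_zpowers, hζ, mul_comm]
    exact congrArg (p * ·) ha
  · set x : Multiplicative F ⋊[affineAct U] U :=
      SemidirectProduct.inr ⟨ζ, Subgroup.mem_zpowers ζ⟩ with hx
    have hxp : IsPGroup p (Subgroup.zpowers x) := by
      refine IsPGroup.of_card (n := 1) ?_
      rw [Nat.card_zpowers, hx, orderOf_injective _ SemidirectProduct.inr_injective, pow_one,
        ← Subgroup.orderOf_coe]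
      exact hζ
    obtain ⟨P, hP⟩ := hxp.exists_le_sylow
    have hxP : x ∈ (P : Subgroup _) := hP (Subgroup.mem_zpowers x)
    set y : Multiplicative F ⋊[affineAct U] U :=
      SemidirectProduct.inl (Multiplicative.ofAdd (1 : F)) with hy
    have hcP : y * x * y⁻¹ * x⁻¹ ∈ (P : Subgroup _) :=
      mul_mem ((hc P).conj_mem x hxP y) (inv_mem hxP)
    set w : Multiplicative F := Multiplicative.ofAdd (1 : F) *
      (affineAct U ⟨ζ, Subgroup.mem_zpowers ζ⟩ (Multiplicative.ofAdd (1 : F)))⁻¹ with hw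
    have hcw : y * x * y⁻¹ * x⁻¹ = SemidirectProduct.inl w := by
      rw [hw, map_mul, map_inv, SemidirectProduct.inl_aut, hy, hx, map_inv, mul_inv_rev, inv_inv,
        mul_inv_rev]
      group
    rw [hcw] at hcP
    obtain ⟨k, hk⟩ := P.isPGroup' ⟨_, hcP⟩
    have hk' : w ^ p ^ k = 1 := by
      have h1 := congrArg Subtype.val hk
      rw [SubmonoidClass.coe_pow, ← map_pow] at h1
      exact SemidirectProduct.inl_injective (h1.trans (map_one _).symm)
    have h2 : orderOf w ∣ Nat.gcd (p ^ k) a :=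
      Nat.dvd_gcd (orderOf_dvd_of_pow_eq_one hk') (ha ▸ orderOf_dvd_natCard w)
    rw [Nat.Coprime.gcd_eq_one (Nat.Coprime.pow_left k (hp.out.coprime_iff_not_dvd.2 hcop)),
      Nat.dvd_one, orderOf_eq_one_iff, hw, mul_inv_eq_one] at h2
    rw [affineAct_apply] at h2
    have h3 : (1 : F) = (ζ : F) * 1 := Multiplicative.ofAdd.injective h2
    rw [mul_one] at h3
    have h4 : ζ = 1 := Units.ext h3.symm
    rw [h4, orderOf_one] at hζ
    exact hp.out.one_lt.ne hζ

end Affine

theorem exists_affine_primePow {m : ℕ} (hm : IsPrimePow m) (hm1 : m % p = 1) :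
    ∃ (H : Type) (_ : Group H) (_ : Finite H), Nat.card H = p * m ∧ ¬ IsPClosed p H := by
  obtain ⟨q, a, hq, ha, rfl⟩ := (isPrimePow_nat_iff _).1 hm
  haveI : Fact q.Prime := ⟨hq⟩
  have hF : Nat.card (GaloisField q a) = q ^ a := GaloisField.card q a ha.ne'
  have hd : p ∣ Nat.card (GaloisField q a)ˣ := by
    rw [Nat.card_units, hF]
    exact ⟨q ^ a / p, by have := Nat.div_add_mod (q ^ a) p; omega⟩
  obtain ⟨ζ, hζ⟩ := exists_prime_orderOf_dvd_card' p hd
  exact exists_affine ζ hζ hF fun h => by rw [Nat.mod_eq_zero_of_dvd h] at hm1; omega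

end CfsgLib.LeastNonPClosed
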